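import Groth.Agent.H17.UO.EquidimComp
import Groth.Agent.H25.ChevComp
import Groth.Agent.H25.OpenAt
import Groth.Agent.H17.Chev.OpenAt4
import Groth.Agent.H17.Chev.Equidim10
import Groth.Agent.H17.Chev.Equidim6

/-!
# Equidimensional morphisms over a geometrically unibranch point

* `isUnivOpenAt_of_isEquidimAt`: pointwise Chevalley criterion (EGA IV 14.4.4 at one point).
* `stalk_dim_eq_add_of_isEquidimAt_of_isGeomUnibranch`: the dimension formula.
* `isEquidim_stalk_of_isEquidimAt_of_isGeomUnibranch`: `O_{X,x}` is equidimensional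
  (EGA IV 14.4.6 a) ⇒ b)), without any catenarity hypothesis.
-/

set_option autoImplicit false
universe u
open CategoryTheory AlgebraicGeometry Order

namespace Groth.Agent.H17.UO

open Groth.Agent.H17.Chev Groth.Agent.H17.Val

theorem gu_congr {Y : Scheme.{u}} {a b : Y} (h : a = b)
    (H : CAlg2.IsGeomUnibranch (Y.presheaf.stalk a)) :
    CAlg2.IsGeomUnibranch (Y.presheaf.stalk b) := h ▸ H

theorem ringKrullDim_stalk_congr {Y : Scheme.{u}} {a b : Y} (h : a = b) :
    ringKrullDim (Y.presheaf.stalk a) = ringKrullDim (Y.presheaf.stalk b) := by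
  subst h; rfl

/-- `IsEquidimAt` passes to generizations lying in the same fibre. -/
theorem isEquidimAt_of_specializes {X Y : Scheme.{u}} (f : X ⟶ Y) (x z : X) (hzx : z ⤳ x)
    (hfz : f.base z = f.base x) (h : EGA43.IsEquidimAt f x) : EGA43.IsEquidimAt f z := by
  obtain ⟨e, U, hxU, hcomp, hfib⟩ := h
  refine ⟨e, U, hzx.mem_open U.isOpen hxU, fun Z hZ => ?_, hfib⟩
  obtain ⟨W, hW, hxW, hcl⟩ := hcomp Z hZ
  exact ⟨W, hW, hfz ▸ hxW, hcl⟩

/-- **Pointwise Chevalley criterion** (EGA IV 14.4.4): a morphism equidimensional at `x` over a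
geometrically unibranch point is universally open at `x`. -/
theorem isUnivOpenAt_of_isEquidimAt {X Y : Scheme.{u}} [IsLocallyNoetherian Y] (f : X ⟶ Y)
    [LocallyOfFiniteType f] (x : X) (hy : CAlg2.IsGeomUnibranch (Y.presheaf.stalk (f.base x)))
    (h : EGA43.IsEquidimAt f x) : EGA43.IsUnivOpenAt f x := by
  obtain ⟨e, he⟩ := (isEquidimAt_iff_irreducibleComponents f x).mp h
  obtain ⟨hcl, hgen, hloc⟩ := he (irreducibleComponent x)
    (irreducibleComponent_mem_irreducibleComponents x) mem_irreducibleComponent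
  exact Groth.Agent.H25.ChevCore.isUnivOpenAt_of_component f x hy _
    (irreducibleComponent_mem_irreducibleComponents x) mem_irreducibleComponent hcl
    (fun η hη => by rw [hgen η hη]; exact hloc)

/-- the dimension formula at a point where `f` is equidimensional over a geometrically unibranch
point -/
theorem stalk_dim_eq_add_of_isEquidimAt_of_isGeomUnibranch {X Y : Scheme.{u}}
    [IsLocallyNoetherian Y] (f : X ⟶ Y) [LocallyOfFiniteType f] (x : X)
    (hy : CAlg2.IsGeomUnibranch (Y.presheaf.stalk (f.base x))) (h : EGA43.IsEquidimAt f x) :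
    ringKrullDim (X.presheaf.stalk x) =
      ringKrullDim (Y.presheaf.stalk (f.base x)) +
        ringKrullDim ((f.fiber (f.base x)).presheaf.stalk (f.asFiber x)) := by
  have hXN : IsLocallyNoetherian X := LocallyOfFiniteType.isLocallyNoetherian f
  apply stalk_dim_eq_add_of_isOpenAt f x
  intro z hz _
  have h1 : z ⤳ f.asFiber x := specializes_iff_mem_closure.mpr hz
  have h2 := h1.map (f.fiberι (f.base x)).continuous
  rw [f.fiberι_asFiber] at h2
  have h3 : f.base ((f.fiberι (f.base x)).base z) = f.base x := by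
    have : (f.fiberι (f.base x)).base z ∈ Set.range (f.fiberι (f.base x)).base := ⟨z, rfl⟩
    rw [Scheme.Hom.range_fiberι] at this
    exact this
  have hUO := isUnivOpenAt_of_isEquidimAt f _ (gu_congr h3.symm hy)
    (isEquidimAt_of_specializes f x _ h2 h3 h)
  exact Groth.Agent.H25.isOpenAt_of_isPullback (fst := 𝟙 X) (snd := f) (g := 𝟙 Y) hUO
    IsPullback.of_id_fst _ rfl

/-- The reduced induced subscheme on an irreducible component of `X` with the right fibre
dimensions is equidimensional over the base at `x` (tail of the proof of `S14075`). -/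
theorem isEquidimAt_subscheme_of_component {X S : Scheme.{u}} (f : X ⟶ S)
    [LocallyOfFiniteType f] (W₀ : Set X) (hW₀c : IsClosed W₀) (ξ : X) (hξ : IsGenericPoint ξ W₀)
    (x : X) (hxW : x ∈ W₀) (e : ℕ)
    (hfξ : closure ({f.base ξ} : Set S) ∈ irreducibleComponents (S : Type u))
    (hgen : topologicalKrullDim ↥(W₀ ∩ f.base ⁻¹' {f.base ξ}) = e)
    (hloc : FlatMor.localDim ↥(W₀ ∩ f.base ⁻¹' {f.base x}) ⟨x, hxW, rfl⟩ ≤ e) :
    ∃ w : ↥((Scheme.IdealSheafData.vanishingIdeal
        (⟨W₀, hW₀c⟩ : TopologicalSpace.Closeds X)).subscheme),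
      (Scheme.IdealSheafData.vanishingIdeal
        (⟨W₀, hW₀c⟩ : TopologicalSpace.Closeds X)).subschemeι.base w = x ∧
      EGA43.IsEquidimAt ((Scheme.IdealSheafData.vanishingIdeal
        (⟨W₀, hW₀c⟩ : TopologicalSpace.Closeds X)).subschemeι ≫ f) w := by
  have hr : Set.range (Scheme.IdealSheafData.vanishingIdeal
      (⟨W₀, hW₀c⟩ : TopologicalSpace.Closeds X)).subschemeι.base = W₀ := by
    rw [Scheme.IdealSheafData.range_subschemeι]
    exact Scheme.IdealSheafData.coe_support_vanishingIdeal _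
  generalize (Scheme.IdealSheafData.vanishingIdeal
      (⟨W₀, hW₀c⟩ : TopologicalSpace.Closeds X)) = I at hr ⊢
  have hmemW : ∀ w' : ↥I.subscheme, I.subschemeι.base w' ∈ W₀ := fun w' =>
    (Set.ext_iff.mp hr _).mp ⟨w', rfl⟩
  obtain ⟨w, hw⟩ : x ∈ Set.range I.subschemeι.base := (Set.ext_iff.mp hr _).mpr hxW
  obtain ⟨ξ₁, hξ₁⟩ : ξ ∈ Set.range I.subschemeι.base := (Set.ext_iff.mp hr _).mpr hξ.mem
  refine ⟨w, hw, ?_⟩
  obtain ⟨hirr, hcl⟩ := irreducibleSpace_of_isEmbedding I.subschemeι.base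
    I.subschemeι.isEmbedding ξ₁ (by rw [hr, hξ₁, hξ.def])
  have := hirr
  have hsq : (I.subschemeι ≫ f) ≫ 𝟙 S = I.subschemeι ≫ f := Category.comp_id _
  have hfd : ∀ w' : ↥I.subscheme,
      FlatMor.fibreDimAt (I.subschemeι ≫ f) w' =
      FlatMor.localDim ↥(W₀ ∩ f.base ⁻¹' {f.base (I.subschemeι.base w')})
        ⟨_, hmemW w', rfl⟩ := by
    intro w'
    rw [sq_fibreDimAt f _ (𝟙 S) _ hsq Function.injective_id w']
    exact localDim_subtype_congr (by rw [hr]) _ _ _
  let U' : I.subscheme.Opens :=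
    ⟨{w' | FlatMor.fibreDimAt (I.subschemeι ≫ f) w' ≤ e},
      Groth.Agent.H17.Chev.isOpen_setOf_fibreDimAt_le _ e⟩
  have hwU' : w ∈ U' := by
    change FlatMor.fibreDimAt _ w ≤ e
    rw [hfd w]
    refine le_trans (le_of_eq ?_) hloc
    exact localDim_subtype_congr' (by rw [hw]) hw _ _
  refine isEquidimAt_of_forall_fibreDimAt_eq _ w e U' hwU' ?_ ?_
  · intro ξ' _ hmax'
    have h1 : ξ₁ ⤳ ξ' := by
      rw [specializes_iff_mem_closure, hcl]; trivial
    have h2 : ξ' ⤳ ξ₁ := hmax' (show ξ' ≤ ξ₁ from h1)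
    have h3 : ξ' = ξ₁ := (h2.antisymm h1).eq
    subst h3
    have h4 : (I.subschemeι ≫ f).base ξ' = f.base ξ := by
      change f.base (I.subschemeι.base ξ') = _
      rw [hξ₁]
    have h5 : (I.subschemeι ≫ f).base w = f.base x := by
      change f.base (I.subschemeι.base w) = _
      rw [hw]
    rw [h4, h5]
    exact ⟨hfξ, ((hξ.specializes hxW).map f.continuous).mem_closure⟩
  · intro w' hw'
    apply le_antisymm hw'
    rw [hfd w']
    have h2 := dim_generic_le_localDim f W₀ hW₀c ξ hξ _ (hmemW w')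
    rw [hgen] at h2
    exact h2

/-- **EGA IV 14.4.6 a) ⇒ b)**: if `f` is equidimensional at `x` over a geometrically unibranch
point, the local ring of `X` at `x` is equidimensional. -/
theorem isEquidim_stalk_of_isEquidimAt_of_isGeomUnibranch {X Y : Scheme.{u}}
    [IsLocallyNoetherian Y] (f : X ⟶ Y) [LocallyOfFiniteType f] (x : X)
    (hy : CAlg2.IsGeomUnibranch (Y.presheaf.stalk (f.base x))) (h : EGA43.IsEquidimAt f x) :
    EGA4.IsEquidim (X.presheaf.stalk x) := by
  intro p hp
  obtain ⟨e, U, hxU, hmaxU, hfibU⟩ := exists_opens_of_isEquidimAt f x h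
  obtain ⟨ξ, hmax, hξx, hle⟩ := exists_isMax_coheight_le_quotient X x p hp
  apply le_antisymm (ringKrullDim_quotient_le p)
  refine le_trans ?_ hle
  have hDF := stalk_dim_eq_add_of_isEquidimAt_of_isGeomUnibranch f x hy h
  have hξU : ξ ∈ U := hξx.mem_open U.isOpen hxU
  have hW₀ : closure ({ξ} : Set X) ∈ irreducibleComponents (X : Type u) :=
    closure_mem_irreducibleComponents_of_isMax X ξ hmax
  obtain ⟨e', he'⟩ := (isEquidimAt_iff_irreducibleComponents f x).mp h
  obtain ⟨hcl, hgen, hloc⟩ := he' _ hW₀ hξx.mem_closure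
  have hcl' := closure_image_eq_of_isGenericPoint f.base f.continuous _ ξ
    (isGenericPoint_closure (x := ξ))
  obtain ⟨w, hw, hEq⟩ := isEquidimAt_subscheme_of_component f (closure {ξ}) isClosed_closure ξ
    isGenericPoint_closure x hξx.mem_closure e' (hcl' ▸ hcl) (hgen (f.base ξ) hcl'.symm) hloc.le
  have hr : Set.range (Scheme.IdealSheafData.vanishingIdeal
      (⟨closure {ξ}, isClosed_closure⟩ : TopologicalSpace.Closeds X)).subschemeι.base =
      closure {ξ} := by
    rw [Scheme.IdealSheafData.range_subschemeι]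
    exact Scheme.IdealSheafData.coe_support_vanishingIdeal _
  generalize (Scheme.IdealSheafData.vanishingIdeal
      (⟨closure {ξ}, isClosed_closure⟩ : TopologicalSpace.Closeds X)) = I at hr w hw hEq
  have hfw : (I.subschemeι ≫ f).base w = f.base x := by
    change f.base (I.subschemeι.base w) = _
    rw [hw]
  have hDF₁ := stalk_dim_eq_add_of_isEquidimAt_of_isGeomUnibranch (I.subschemeι ≫ f) w
    (gu_congr hfw.symm hy) hEq
  have hsq : (I.subschemeι ≫ f) ≫ 𝟙 Y = I.subschemeι ≫ f := Category.comp_id _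
  rw [stalk_eq_coheight_range I.subschemeι w,
    sq_stalk_fiber f I.subschemeι (𝟙 Y) (I.subschemeι ≫ f) hsq Function.injective_id w,
    ringKrullDim_stalk_congr hfw] at hDF₁
  have e1 : coheight (⟨I.subschemeι.base w, w, rfl⟩ : ↥(Set.range I.subschemeι.base)) =
      coheight (⟨x, hξx.mem_closure⟩ : ↥(closure ({ξ} : Set X))) :=
    coheight_subtype_congr' hr hw _ _
  have e2 : coheight (⟨I.subschemeι.base w, sq_mem f I.subschemeι (𝟙 Y) (I.subschemeι ≫ f) hsq w⟩ :
        ↥(Set.range I.subschemeι.base ∩ f.base ⁻¹' {f.base (I.subschemeι.base w)})) =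
      coheight (⟨x, hξx.mem_closure, rfl⟩ : ↥(closure ({ξ} : Set X) ∩ f.base ⁻¹' {f.base x})) :=
    coheight_subtype_congr' (by rw [hr, hw]) hw _ _
  rw [e1, e2] at hDF₁
  have hl := localDim_closure_inter_eq_of_forall_fibreDimAt_eq f x e U hxU hfibU ξ hmax hξx
  rw [← hfibU x hxU] at hl
  rw [coheight_inter_fibre_eq_of_localDim_eq f (closure {ξ}) isClosed_closure x hξx.mem_closure hl]
    at hDF₁
  rw [hDF, ← hDF₁]

end Groth.Agent.H17.UO
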