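import Mathlib
import Groth.Prelude.Def_EGA43

/-!
# Closed points of fibres in open neighbourhoods
-/

set_option autoImplicit false
universe u
open CategoryTheory CategoryTheory.Limits AlgebraicGeometry

namespace Groth.Agent.H17.UO

/-- Every open neighbourhood of `x₁` contains a specialization of `x₁` which is a closed point of
the fibre of `f` through `x₁` (`f` locally of finite type). -/
theorem exists_closed_fibre_point_mem_open {X Y : Scheme.{u}} (f : X ⟶ Y) [LocallyOfFiniteType f]
    (x₁ : X) (U : X.Opens) (hx₁ : x₁ ∈ U) :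
    ∃ x : X, x ∈ U ∧ f.base x = f.base x₁ ∧ x₁ ⤳ x ∧
      (∀ x' : X, f.base x' = f.base x₁ → x ⤳ x' → x' = x) := by
  set y := f.base x₁ with hy
  set w₁ := f.asFiber x₁ with hw₁
  have hιw₁ : (f.fiberι y).base w₁ = x₁ := f.fiberι_asFiber x₁
  set S : Set ↥(f.fiber y) := closure {w₁} ∩ (f.fiberι y).base ⁻¹' (U : Set X) with hS
  have hSne : S.Nonempty := ⟨w₁, subset_closure rfl, by
    change (f.fiberι y).base w₁ ∈ (U : Set X)
    rw [hιw₁]; exact hx₁⟩
  have hSlc : IsLocallyClosed S :=
    isClosed_closure.isLocallyClosed.inter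
      ((U.isOpen.preimage (f.fiberι y).continuous).isLocallyClosed)
  obtain ⟨w, ⟨hw1, hw2⟩, hwc⟩ := nonempty_inter_closedPoints hSne hSlc
  have hwcl : IsClosed ({w} : Set ↥(f.fiber y)) := hwc
  refine ⟨(f.fiberι y).base w, hw2, ?_, ?_, ?_⟩
  · have : (f.fiberι y).base w ∈ Set.range (f.fiberι y).base := ⟨w, rfl⟩
    rw [Scheme.Hom.range_fiberι] at this
    exact this
  · rw [← hιw₁]
    exact (specializes_iff_mem_closure.mpr hw1).map (f.fiberι y).continuous
  · intro x' hx' hspec
    obtain ⟨w', rfl⟩ : x' ∈ Set.range (f.fiberι y).base := by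
      rw [Scheme.Hom.range_fiberι]; exact hx'
    have h1 : w ⤳ w' := (f.fiberι y).isEmbedding.isInducing.specializes_iff.mp hspec
    have h2 : w' ∈ closure ({w} : Set ↥(f.fiber y)) := h1.mem_closure
    rw [hwcl.closure_eq] at h2
    rw [h2]

end Groth.Agent.H17.UO
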