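import Mathlib
import Groth.Prelude.Def_EGA43
import Groth.Agent.H17.Val.BCDim

/-!
# Universal openness at a point propagates to specializations inside the fibre

If `f` is universally open at `z`, and `x` is a specialization of `z` lying in the same fibre of
`f`, then `f` is universally open at `x` (EGA IV 14.3.3.1).  The proof uses that the base change of
a fibre along a residue field extension is flat, hence generizing.
-/

set_option autoImplicit false
universe u

open CategoryTheory CategoryTheory.Limits AlgebraicGeometry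

namespace Groth.Agent.H17.UO

/-- Lifting of generizations inside fibres along an arbitrary base change: if `x'` lies over `x`
and `z ⤳ x` in the fibre of `f`, there is `z' ⤳ x'` over `z` in the fibre of the base change. -/
theorem exists_specializes_of_isPullback_of_fibre {X Y X' Y' : Scheme.{u}} {f : X ⟶ Y}
    {g : Y' ⟶ Y} {fst : X' ⟶ X} {snd : X' ⟶ Y'} (sq : IsPullback fst snd f g)
    (x' : X') (z : X) (hzx : z ⤳ fst.base x') (hfz : f.base z = f.base (fst.base x')) :
    ∃ z' : X', z' ⤳ x' ∧ fst.base z' = z ∧ snd.base z' = snd.base x' := by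
  set y' := snd.base x' with hy'
  set y := g.base y' with hy
  have hxy : f.base (fst.base x') = y := by
    rw [← Scheme.Hom.comp_apply, sq.w, Scheme.Hom.comp_apply]
  let r := g.residueFieldMap y'
  let P := pullback (f.fiberToSpecResidueField y) (Spec.map r)
  let p1 : P ⟶ f.fiber y := pullback.fst _ _
  let p2 : P ⟶ Spec (Y'.residueField y') := pullback.snd _ _
  have : Flat (Spec.map r) := inferInstance
  have : Flat p1 := inferInstanceAs (Flat (pullback.fst (f.fiberToSpecResidueField y) (Spec.map r)))
  have sq1 : IsPullback p1 p2 (f.fiberToSpecResidueField y) (Spec.map r) :=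
    IsPullback.of_hasPullback _ _
  have sq2 : IsPullback (f.fiberι y) (f.fiberToSpecResidueField y) f
      (Y.fromSpecResidueField y) := IsPullback.of_hasPullback _ _
  have sq3 := sq1.paste_horiz sq2
  have e1 : Spec.map r ≫ Y.fromSpecResidueField y = Y'.fromSpecResidueField y' ≫ g :=
    Scheme.Hom.SpecMap_residueFieldMap_fromSpecResidueField g y'
  rw [e1] at sq3
  let ℓ : P ⟶ X' := sq.lift (p1 ≫ f.fiberι y) (p2 ≫ Y'.fromSpecResidueField y')
    (by rw [Category.assoc, Category.assoc]; simpa only [Category.assoc] using sq3.w)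
  have hℓ1 : ℓ ≫ fst = p1 ≫ f.fiberι y := sq.lift_fst _ _ _
  have hℓ2 : ℓ ≫ snd = p2 ≫ Y'.fromSpecResidueField y' := sq.lift_snd _ _ _
  have sq4 : IsPullback ℓ p2 snd (Y'.fromSpecResidueField y') := by
    refine IsPullback.of_right ?_ hℓ2 sq
    rw [hℓ1]
    exact sq3
  -- a point of `P` over `x'`
  obtain ⟨t, ht⟩ : ∃ t : Spec (Y'.residueField y'), (Y'.fromSpecResidueField y').base t = y' := by
    have : y' ∈ Set.range (Y'.fromSpecResidueField y').base := by
      rw [Scheme.range_fromSpecResidueField]; rfl
    exact this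
  obtain ⟨p, hp1, hp2⟩ := Groth.Agent.H17.Val.exists_of_isPullback sq4 x' t (by rw [ht])
  -- the point `z` as a point of the fibre
  have hzy : f.base z = y := hfz.trans hxy
  obtain ⟨z₀, hz₀⟩ : ∃ z₀ : f.fiber y, (f.fiberι y).base z₀ = z := by
    have : z ∈ Set.range (f.fiberι y).base := by
      rw [Scheme.Hom.range_fiberι]; exact hzy
    exact this
  have hp1' : (f.fiberι y).base (p1.base p) = fst.base x' := by
    rw [← Scheme.Hom.comp_apply, ← hℓ1, Scheme.Hom.comp_apply, hp1]
  have hspec : z₀ ⤳ p1.base p := by
    rw [← (f.fiberι y).isEmbedding.isInducing.specializes_iff, hz₀, hp1']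
    exact hzx
  obtain ⟨p₀, hp₀, hp₀z⟩ := (Flat.generalizingMap p1) hspec
  refine ⟨ℓ.base p₀, ?_, ?_, ?_⟩
  · rw [← hp1]
    exact hp₀.map ℓ.base.hom.continuous
  · rw [← Scheme.Hom.comp_apply, hℓ1, Scheme.Hom.comp_apply, hp₀z, hz₀]
  · rw [← Scheme.Hom.comp_apply, hℓ2, Scheme.Hom.comp_apply]
    have : (Y'.fromSpecResidueField y').base (p2.base p₀) ∈
        Set.range (Y'.fromSpecResidueField y').base := ⟨_, rfl⟩
    rw [Scheme.range_fromSpecResidueField] at this
    exact this

/-- **EGA IV 14.3.3.1.** If `f` is universally open at `z`, it is universally open at every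
specialization of `z` in the same fibre. -/
theorem isUnivOpenAt_of_specializes {X Y : Scheme.{u}} (f : X ⟶ Y) (x z : X)
    (hzx : z ⤳ x) (hfz : f.base z = f.base x) (h : EGA43.IsUnivOpenAt f z) :
    EGA43.IsUnivOpenAt f x := by
  intro Y' g x' hx'
  obtain ⟨z', hz'x', hz'z, hz'y⟩ := exists_specializes_of_isPullback_of_fibre
    (IsPullback.of_hasPullback f g) x' z (by rw [hx']; exact hzx) (by rw [hx']; exact hfz)
  intro U hU
  have hU' : U ∈ nhds z' := hz'x' hU
  have := h Y' g z' hz'z U hU'
  rwa [hz'y] at this

end Groth.Agent.H17.UO
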